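import Cfsg.Agent.H776.P4.Stmts
import Cfsg.Agent.H245.PU.Ess
import Cfsg.Agent.H659.PU.Over

/-!
# S5210 [P4-2E] (helper168)

`q = 2`: the essential subgroups of a saturated system over `PG K` are among `V`, `Q` and the `E_α`.
-/

set_option autoImplicit false

namespace Cfsg.Agent.H168.P4

open Cfsg Cfsg.FusionSystem Cfsg.Agent.H802
open Cfsg.Agent.H776.P4
open Cfsg.Agent.H756.PU (HypK Ess Inv Com NormAut TIAut AF)

universe u

section

variable {K : Type u} [Field K] [StarRing K] {p n : ℕ}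

theorem finite_PG (h : HypK K p n) : Finite (PG K) := by
  have := h.fin
  refine Finite.of_injective (β := K × K × K × K) (fun x => (x.r, x.a, x.b, x.c)) ?_
  intro x y hxy
  simp only [Prod.mk.injEq] at hxy
  obtain ⟨h1, h2, h3, h4⟩ := hxy
  exact PG.ext h1 h2 h3 h4

theorem mem_PV {x : PG K} : x ∈ PV K ↔ x.r = 0 := Iff.rfl
theorem mem_PQ {x : PG K} : x ∈ PQ K ↔ x.c = 0 := Iff.rfl

instance normal_PV : (PV K).Normal := by
  refine ⟨fun x hx g => ?_⟩
  have hx' : x.r = 0 := hx
  rw [mem_PV]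
  simp [hx']

instance normal_PQ : (PQ K).Normal := by
  refine ⟨fun x hx g => ?_⟩
  have hx' : x.c = 0 := hx
  rw [mem_PQ]
  simp [hx']

/-- a normal subgroup is fully normalized -/
theorem fullyNormalized_of_normal {G : Type*} [Group G] [Finite G] (F : FusionSystem (⊤ : Subgroup G)) (Q : Subgroup G)
    [Q.Normal] : F.IsFullyNormalized Q := by
  refine ⟨le_top, fun R _ => ?_⟩
  have h : normalizerIn ⊤ Q = ⊤ := by
    rw [normalizerIn, Subgroup.normalizer_eq_top, top_inf_eq]
  rw [h]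
  exact Subgroup.card_le_card_group _ |>.trans_eq (by simp)

/-- for `q = 2`: `p = 2` -/
theorem p_two (h : HypK K p n) (h2 : p ^ n = 2) : p = 2 ∧ n = 1 := by
  have hn : n ≠ 0 := by have := h.hn; omega
  have h3 : p ∣ 2 := by rw [← h2]; exact dvd_pow_self p hn
  have h4 : p = 2 := (Nat.prime_dvd_prime_iff_eq h.pp Nat.prime_two).1 h3
  refine ⟨h4, ?_⟩
  rw [h4] at h2
  exact Nat.pow_right_injective (le_refl 2) (by simpa using h2)

theorem two_zero (h : HypK K p n) (h2 : p ^ n = 2) : (2 : K) = 0 := by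
  have := h.char
  have h3 := CharP.cast_eq_zero K p
  rw [(p_two h h2).1] at h3
  exact_mod_cast h3

theorem add_self' (h : HypK K p n) (h2 : p ^ n = 2) (x : K) : x + x = 0 := by
  rw [← two_mul, two_zero h h2, zero_mul]

/-- the exponent of `PG K` is `4` for `q = 2` -/
theorem isPGroup_PG (h : HypK K p n) (h2 : p ^ n = 2) : IsPGroup p (⊤ : Subgroup (PG K)) := by
  rw [(p_two h h2).1]
  have hz := two_zero h h2
  rintro ⟨x, -⟩
  refine ⟨2, ?_⟩
  apply Subtype.ext
  have h3 : (x * x) * (x * x) = 1 := by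
    ext
    · simp only [PG.mul_r, PG.one_r]
      linear_combination 2 * x.r * hz
    · simp only [PG.mul_r, PG.mul_a, PG.mul_b, PG.mul_c, PG.one_a, star_add, star_mul', x.hc]
      linear_combination (2 * x.a + 3 * x.r * star x.b + 3 * star x.r * x.b + 7 * x.r * star x.r * x.c) * hz
    · simp only [PG.mul_r, PG.mul_b, PG.mul_c, PG.one_b]
      linear_combination (2 * x.b + 3 * x.r * x.c) * hz
    · simp only [PG.mul_c, PG.one_c]
      linear_combination 2 * x.c * hz
  change x ^ 2 ^ 2 = 1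
  rw [← h3, show (2 : ℕ) ^ 2 = 2 + 2 from rfl, pow_add, pow_two]

/-- the four elements of `K` -/
theorem four (h : HypK K p n) (h2 : p ^ n = 2) {α β : K} (hα : α ≠ 0) (hβ : β ≠ 0) (hab : β ≠ α) (x : K) :
    x = 0 ∨ x = α ∨ x = β ∨ x = α + β := by
  classical
  have := h.fin
  have := Fintype.ofFinite K
  have hc : Fintype.card K = 4 := by
    rw [← Nat.card_eq_fintype_card, h.card, h2]
    norm_num
  have h0 : α + β ≠ 0 := by
    intro h0
    apply hab
    have h3 := add_self' h h2 α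
    exact add_left_cancel (h0.trans h3.symm)
  have h1 : ({0, α, β, α + β} : Finset K) = Finset.univ := by
    apply Finset.eq_univ_of_card
    rw [hc]
    rw [Finset.card_insert_of_notMem, Finset.card_insert_of_notMem, Finset.card_insert_of_notMem,
      Finset.card_singleton]
    · rw [Finset.mem_singleton]
      intro h3
      exact hα (by simpa using h3)
    · rw [Finset.mem_insert, Finset.mem_singleton]
      rintro (h3 | h3)
      · exact hab h3.symm
      · exact hβ (by simpa using h3)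
    · simp only [Finset.mem_insert, Finset.mem_singleton]
      rintro (h3 | h3 | h3)
      · exact hα h3.symm
      · exact hβ h3.symm
      · exact h0 h3.symm
  have h3 : x ∈ ({0, α, β, α + β} : Finset K) := by rw [h1]; exact Finset.mem_univ x
  simpa using h3

theorem le_EA (α : K) : PV K ≤ EA α := fun _ hx => Subgroup.subset_closure (Or.inl hx)

/-- `E_α` for `q = 2` -/
theorem mem_EA (h : HypK K p n) (h2 : p ^ n = 2) {α : K} {x : PG K} : x ∈ EA α ↔ x.r = 0 ∨ x.r = α := by
  constructor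
  · intro hx
    refine Subgroup.closure_induction (p := fun x _ => x.r = 0 ∨ x.r = α) (fun _ hx => hx) (Or.inl rfl) ?_ ?_ hx
    · rintro x y _ _ (h3 | h3) (h4 | h4)
      · left; simp [h3, h4]
      · right; simp [h3, h4]
      · right; simp [h3, h4]
      · left; rw [PG.mul_r, h3, h4, add_self' h h2]
    · rintro x _ (h3 | h3)
      · left; simp [h3]
      · right
        rw [PG.inv_r, h3]
        exact (eq_neg_of_add_eq_zero_left (add_self' h h2 α)).symm
  · intro hx
    exact Subgroup.subset_closure hx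

theorem eq_EA_of_le (h : HypK K p n) (h2 : p ^ n = 2) {E : Subgroup (PG K)} (hV : PV K ≤ E) (hne : E ≠ ⊤)
    (hV' : E ≠ PV K) : ∃ α : K, α ≠ 0 ∧ E = EA α := by
  obtain ⟨g, hg, hgV⟩ : ∃ g ∈ E, g ∉ PV K := by
    by_contra hcon
    push Not at hcon
    exact hV' (le_antisymm hcon hV)
  have hadj : ∀ x y : PG K, x.r = y.r → y ∈ E → x ∈ E := by
    intro x y hxy hy
    have h3 : x * y⁻¹ ∈ PV K := by rw [mem_PV]; simp [hxy]
    have h4 := E.mul_mem (hV h3) hy
    rwa [inv_mul_cancel_right] at h4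
  have hadd : ∀ x y z : PG K, x.r = y.r + z.r → y ∈ E → z ∈ E → x ∈ E := fun x y z hx hy hz =>
    hadj x (y * z) hx (E.mul_mem hy hz)
  refine ⟨g.r, hgV, le_antisymm ?_ ?_⟩
  · intro x hx
    rw [mem_EA h h2]
    by_contra hcon
    push Not at hcon
    apply hne
    rw [eq_top_iff]
    intro y _
    rcases four h h2 hgV hcon.1 hcon.2 y.r with h3 | h3 | h3 | h3
    · exact hV h3
    · exact hadj y g h3 hg
    · exact hadj y x h3 hx
    · exact hadd y g x h3 hg hx
  · intro x hx
    rcases (mem_EA h h2).1 hx with h3 | h3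
    · exact hV h3
    · exact hadj x g h3 hg

end

/-- the Sylow property of `Aut_F(Q)` for a normal subgroup `Q` -/
theorem syl_of_normal {G : Type u} [Group G] [Finite G] {p : ℕ} [Fact p.Prime] (hG : IsPGroup p (⊤ : Subgroup G))
    {F : FusionSystem (⊤ : Subgroup G)} (hF : F.IsSaturated p) (Q : Subgroup G) [Q.Normal] :
    ∀ P : Subgroup (MulAut Q), P ≤ F.autGroup Q → IsPGroup p P →
      ∃ g ∈ F.autGroup Q, ∀ x ∈ P, g * x * g⁻¹ ∈ autInducedBy ⊤ Q := by
  intro P hP hPp
  obtain ⟨R, hR⟩ := (isFullyAutomized_of_isFullyNormalized hG hF (fullyNormalized_of_normal F Q)).2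
  have hP' : IsPGroup p (P.subgroupOf (F.autGroup Q)) :=
    hPp.comap_of_injective (F.autGroup Q).subtype (F.autGroup Q).subtype_injective
  obtain ⟨T, hT⟩ := hP'.exists_le_sylow
  obtain ⟨g, hg⟩ := MulAction.exists_smul_eq (F.autGroup Q) T R
  refine ⟨g, g.2, fun x hx => ?_⟩
  have h1 : g * (⟨x, hP hx⟩ : F.autGroup Q) * g⁻¹ ∈ (R : Subgroup (F.autGroup Q)) := by
    rw [← hg, Sylow.coe_subgroup_smul]
    exact ⟨⟨x, hP hx⟩, hT hx, rfl⟩
  rw [hR] at h1
  exact h1

/-- (2E) -/
theorem stTwoE (hE1 : StE1.{u}) (hE2 : StE2.{u}) (hE3 : StE3.{u}) (hTI : StTI.{u}) : StTwoE.{u} := by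
  intro K _ _ p n _ h h2 F hF E hE
  have := finite_PG h
  have hpG : IsPGroup p (⊤ : Subgroup (PG K)) := isPGroup_PG h h2
  have hEss : Ess (⊤ : Subgroup (PG K)) E p (F.autGroup E) := Cfsg.Agent.H245.PU.stEss F E hpG hF hE
  have hY := hE1 h hEss
  by_cases hV : PV K ≤ E
  · by_cases hEV : E = PV K
    · exact Or.inl hEV
    · exact Or.inr (Or.inr (eq_EA_of_le h h2 hV (ne_of_isEssential hpG hF hE) hEV))
  · right; left
    have hZ := hE2 h hEss hY hV
    obtain ⟨hQ, hQi⟩ := hE3 h hEss hY hZ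
    obtain ⟨hTI1, hTI2⟩ := hTI h
    obtain ⟨hc, -, -⟩ := hTI2 (PQ K) (Or.inr rfl)
    refine Cfsg.Agent.H659.PU.stOver F (PQ K) E hpG hF hE hQ ?_ hc ?_ hQi
    · rw [Subgroup.normalizer_eq_top]
    · exact hTI1 (F.autGroup (PQ K)) (autInducedBy_le_autGroup F le_top) (syl_of_normal hpG hF (PQ K))

end Cfsg.Agent.H168.P4
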